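import Mathlib

/-!
Elements `a` of `GF(p^q)` with `a` and `2 - a` both of norm one to the prime field.
-/

set_option autoImplicit false

namespace Cfsg.Agent.NormPair

open Polynomial

variable {p : ℕ} [hp : Fact p.Prime]

/-- The norm of a generator of a simple extension. -/
theorem norm_eq_of_minpoly {F L : Type*} [Field F] [Field L] [Algebra F L] [FiniteDimensional F L] (a : L)
    (f : F[X]) (hf : f.Monic) (hirr : Irreducible f) (ha : aeval a f = 0)
    (hdeg : f.natDegree = Module.finrank F L) : Algebra.norm F a = (-1) ^ f.natDegree * f.coeff 0 := by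
  have hmin : minpoly F a = f := (minpoly.eq_of_irreducible_of_monic hirr ha hf).symm
  set φ : L →ₗ[F] L := Algebra.lmul F L a
  have hφ : minpoly F φ = f := by
    rw [← hmin]
    exact minpoly.algHom_eq (Algebra.lmul F L) (Algebra.lmul_injective) a
  have hchar : φ.charpoly = f := by
    refine (eq_of_monic_of_dvd_of_natDegree_le hf (LinearMap.charpoly_monic φ) (hφ ▸ LinearMap.minpoly_dvd_charpoly φ) ?_)
    rw [LinearMap.charpoly_natDegree, hdeg]
  rw [Algebra.norm_apply]
  show LinearMap.det φ = _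
  rw [LinearMap.det_eq_sign_charpoly_coeff, hchar, hdeg]

/-- The cubic family. -/
noncomputable def cubic (t : ZMod p) : (ZMod p)[X] := X ^ 3 + (C (-t) * X ^ 2 + C (2 * t - 3) * X + C (-1))

theorem cubic_monic (t : ZMod p) : (cubic t).Monic := by
  unfold cubic; monicity!

theorem cubic_degree (t : ZMod p) : (cubic t).natDegree = 3 := by
  unfold cubic; compute_degree!

theorem cubic_eval {L : Type*} [Field L] [Algebra (ZMod p) L] (t : ZMod p) (a : L) :
    aeval a (cubic t) = a ^ 3 - algebraMap (ZMod p) L t * a ^ 2 + (2 * algebraMap (ZMod p) L t - 3) * a - 1 := by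
  simp [cubic, map_sub, map_mul, map_ofNat]
  ring

theorem irreducible_cubic {t : ZMod p} (h : ∀ x : ZMod p, aeval x (cubic t) ≠ 0) : Irreducible (cubic t) := by
  rw [(cubic_monic t).irreducible_iff_roots_eq_zero_of_degree_le_three (by rw [cubic_degree]; norm_num)
    (by rw [cubic_degree])]
  refine Multiset.eq_zero_of_forall_notMem fun x hx => h x ?_
  rw [mem_roots (cubic_monic t).ne_zero] at hx
  rwa [Polynomial.coe_aeval_eq_eval]

/-- The case `q = 3`. -/
theorem exists_three (hp2 : p ≠ 2) :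
    ∃ a : GaloisField p 3, a ≠ 1 ∧ Algebra.norm (ZMod p) a = 1 ∧ Algebra.norm (ZMod p) (2 - a) = 1 := by
  classical
  obtain ⟨t, ht⟩ : ∃ t : ZMod p, ∀ x : ZMod p, aeval x (cubic t) ≠ 0 := by
    let bad : Finset (ZMod p) :=
      ((Finset.univ.erase 0).erase 2).image fun x => (x ^ 3 - 3 * x - 1) / (x ^ 2 - 2 * x)
    have hlt : bad.card < (Finset.univ : Finset (ZMod p)).card :=
      lt_of_le_of_lt Finset.card_image_le (lt_of_le_of_lt (Finset.card_erase_le)
        (Finset.card_erase_lt_of_mem (Finset.mem_univ 0)))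
    obtain ⟨t, -, ht⟩ := Finset.exists_mem_notMem_of_card_lt_card hlt
    refine ⟨t, fun x hx => ?_⟩
    rw [cubic_eval, Algebra.algebraMap_self_apply] at hx
    have hx0 : x ≠ 0 := fun h => by subst h; simp at hx
    have hx2 : x ≠ 2 := fun h => by subst h; exact one_ne_zero (α := ZMod p) (by linear_combination hx)
    refine ht (Finset.mem_image.2 ⟨x, by simp [hx0, hx2], ?_⟩)
    have hne : x ^ 2 - 2 * x ≠ 0 := by
      rw [show x ^ 2 - 2 * x = x * (x - 2) by ring]
      exact mul_ne_zero hx0 (sub_ne_zero.2 hx2)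
    rw [div_eq_iff hne]
    linear_combination hx
  have hirr := irreducible_cubic ht
  haveI : Fact (Irreducible (cubic t)) := ⟨hirr⟩
  haveI : Module.Finite (ZMod p) (AdjoinRoot (cubic t)) :=
    (AdjoinRoot.powerBasis (cubic_monic t).ne_zero).finite
  haveI : Finite (AdjoinRoot (cubic t)) := Module.finite_of_finite (ZMod p)
  have hcard : Nat.card (AdjoinRoot (cubic t)) = p ^ 3 := by
    rw [Module.natCard_eq_pow_finrank (K := ZMod p), Nat.card_zmod,
      (AdjoinRoot.powerBasis (cubic_monic t).ne_zero).finrank, AdjoinRoot.powerBasis_dim, cubic_degree]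
  let e := GaloisField.algEquivGaloisField p 3 hcard
  set a := e (AdjoinRoot.root (cubic t))
  have ha : aeval a (cubic t) = 0 := by
    show aeval (e (AdjoinRoot.root (cubic t))) (cubic t) = 0
    rw [aeval_algHom_apply e, AdjoinRoot.aeval_eq, AdjoinRoot.mk_self, map_zero]
  have hdeg : ∀ s : ZMod p, (cubic s).natDegree = Module.finrank (ZMod p) (GaloisField p 3) := fun s => by
    rw [cubic_degree, GaloisField.finrank p (by norm_num)]
  have hnorm : ∀ (s : ZMod p) (b : GaloisField p 3), Irreducible (cubic s) → aeval b (cubic s) = 0 →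
      Algebra.norm (ZMod p) b = 1 := fun s b hs hb => by
    rw [norm_eq_of_minpoly b _ (cubic_monic s) hs hb (hdeg s), cubic_degree]
    simp [cubic]
    norm_num
  refine ⟨a, fun h => ?_, hnorm t a hirr ha, hnorm (6 - t) (2 - a) (irreducible_cubic fun x hx => ht (2 - x) ?_) ?_⟩
  · rw [h, ← map_one (algebraMap (ZMod p) (GaloisField p 3)), aeval_algebraMap_apply, map_eq_zero] at ha
    exact ht 1 ha
  · rw [cubic_eval, Algebra.algebraMap_self_apply] at hx ⊢
    linear_combination -hx
  · rw [cubic_eval] at ha ⊢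
    rw [map_sub, map_ofNat]
    linear_combination -ha

section Jacobi

variable {K : Type*} [Field K] [Fintype K]

theorem norm_mulChar_le (χ : MulChar K ℂ) (x : K) : ‖χ x‖ ≤ 1 := by
  by_cases hx : x = 0
  · simp [hx, MulChar.map_zero]
  · refine (Complex.norm_eq_one_of_pow_eq_one ?_ (n := Fintype.card K - 1) ?_).le
    · rw [← map_pow, FiniteField.pow_card_sub_one_eq_one x hx, map_one]
    · have := Fintype.one_lt_card (α := K); omega

theorem norm_jacobiSum_le {χ ψ : MulChar K ℂ} (h : ¬ (χ = 1 ∧ ψ = 1)) (hK : ringChar K ≠ 0) :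
    ‖jacobiSum χ ψ‖ ≤ Real.sqrt (Fintype.card K) := by
  have h1 : (1 : ℝ) ≤ Real.sqrt (Fintype.card K) := Real.one_le_sqrt.2 (by exact_mod_cast Fintype.card_pos)
  by_cases hχ : χ = 1
  · subst hχ
    rw [jacobiSum_one_nontrivial (fun e => h ⟨rfl, e⟩), norm_neg, norm_one]
    exact h1
  by_cases hψ : ψ = 1
  · subst hψ
    rw [jacobiSum_comm, jacobiSum_one_nontrivial hχ, norm_neg, norm_one]
    exact h1
  by_cases hp' : χ * ψ = 1
  · rw [← inv_eq_of_mul_eq_one_right hp', jacobiSum_nontrivial_inv hχ, norm_neg]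
    exact (norm_mulChar_le χ _).trans h1
  · have e := jacobiSum_mul_jacobiSum_inv (F := K) (F' := ℂ) (by rw [ringChar.eq_zero]; exact hK.symm) hχ hψ hp'
    have hs : jacobiSum χ⁻¹ ψ⁻¹ = star (jacobiSum χ ψ) := by
      simp only [jacobiSum, star_sum, star_mul', MulChar.star_apply']
    rw [hs, Complex.star_def, Complex.mul_conj, Complex.normSq_eq_norm_sq] at e
    have e' : ‖jacobiSum χ ψ‖ ^ 2 = (Fintype.card K : ℝ) := by exact_mod_cast e
    rw [← e', Real.sqrt_sq (norm_nonneg _)]

variable [Algebra (ZMod p) K]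

/-- A character of the prime field composed with the norm. -/
noncomputable def lift (χ : MulChar (ZMod p) ℂ) : MulChar K ℂ where
  toMonoidHom := χ.toMonoidHom.comp (Algebra.norm (ZMod p))
  map_nonunit' x hx := by
    rw [show x = 0 from not_not.1 fun h => hx (isUnit_iff_ne_zero.2 h)]
    show χ (Algebra.norm (ZMod p) (0 : K)) = 0
    rw [Algebra.norm_zero, MulChar.map_zero]

theorem lift_apply (χ : MulChar (ZMod p) ℂ) (x : K) : lift χ x = χ (Algebra.norm (ZMod p) x) := rfl

theorem lift_eq_one {χ : MulChar (ZMod p) ℂ} (h : lift (K := K) χ = 1) : χ = 1 := by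
  haveI : FiniteDimensional (ZMod p) K := Module.Finite.of_finite
  refine MulChar.ext fun u => ?_
  obtain ⟨x, hx⟩ := FiniteField.norm_surjective (ZMod p) K (u : ZMod p)
  have hx0 : x ≠ 0 := fun hz => u.ne_zero (by rw [← hx, hz, Algebra.norm_zero])
  rw [← hx, ← lift_apply, h, MulChar.one_apply (isUnit_iff_ne_zero.2 hx0),
    MulChar.one_apply (by rw [hx]; exact u.isUnit)]

theorem two_le_count (hp2 : p ≠ 2) {k : ℕ} (hk : 4 ≤ k) (hcard : Fintype.card K = p ^ k) :
    2 ≤ Set.ncard {a : K | Algebra.norm (ZMod p) a = 1 ∧ Algebra.norm (ZMod p) (2 - a) = 1} := by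
  classical
  have hpp : p.Prime := hp.out
  haveI : NeZero p := ⟨hpp.ne_zero⟩
  have hchar : ringChar K = p := by
    haveI : CharP K p := charP_of_injective_algebraMap (algebraMap (ZMod p) K).injective p
    exact ringChar.eq K p
  have h2 : (2 : K) ≠ 0 := by
    apply Ring.two_ne_zero; rw [hchar]; exact hp2
  set S := Finset.univ.filter fun a : K => Algebra.norm (ZMod p) a = 1 ∧ Algebra.norm (ZMod p) (2 - a) = 1
  suffices hS : 2 ≤ S.card by
    rw [Set.ncard_eq_toFinset_card']
    refine hS.trans (le_of_eq ?_)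
    congr 1
    ext a
    simp [S]
  by_contra hlt
  set M : ℕ := p - 1
  have hM : Fintype.card (MulChar (ZMod p) ℂ) = M := by
    rw [← Nat.card_eq_fintype_card]
    exact (DirichletCharacter.card_eq_totient_of_hasEnoughRootsOfUnity ℂ p).trans (Nat.totient_prime hpp)
  let T := fun c : MulChar (ZMod p) ℂ × MulChar (ZMod p) ℂ =>
    ∑ a : K, (lift c.1) a * (lift c.2) (2 - a)
  have hT : ∑ c, T c = (M : ℂ) ^ 2 * S.card := by
    simp only [T]
    rw [Finset.sum_comm]
    have e : ∀ a : K, ∑ c : MulChar (ZMod p) ℂ × MulChar (ZMod p) ℂ, (lift c.1) a * (lift c.2) (2 - a) =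
        if a ∈ S then (M : ℂ) ^ 2 else 0 := by
      intro a
      have e1 : ∀ b : ZMod p, ∑ χ : MulChar (ZMod p) ℂ, χ b = if b = 1 then (M : ℂ) else 0 := fun b => by
        show _ = if b = 1 then ((p - 1 : ℕ) : ℂ) else 0
        rw [← Nat.totient_prime hpp]
        exact DirichletCharacter.sum_characters_eq ℂ b
      simp only [lift_apply, Fintype.sum_prod_type, ← Finset.mul_sum, ← Finset.sum_mul, e1, S, Finset.mem_filter,
        Finset.mem_univ, true_and]
      by_cases u1 : Algebra.norm (ZMod p) a = 1 <;> by_cases u2 : Algebra.norm (ZMod p) (2 - a) = 1 <;> simp [u1, u2] <;> ring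
    simp only [e, ← Finset.sum_filter]
    simp [mul_comm]
  have hTj : ∀ c, T c = (lift c.1 : MulChar K ℂ) 2 * (lift c.2 : MulChar K ℂ) 2 * jacobiSum (lift (K := K) c.1) (lift c.2) := by
    intro c
    rw [jacobiSum, Finset.mul_sum]
    refine (Fintype.sum_equiv (Equiv.mulLeft₀ (2 : K) h2) _ (fun a => (lift c.1) a * (lift c.2) (2 - a)) fun x => ?_).symm
    show _ = (lift c.1) (2 * x) * (lift c.2) (2 - 2 * x)
    rw [show (2 : K) - 2 * x = 2 * (1 - x) by ring, map_mul, map_mul]
    ring
  have hT1 : T (1, 1) = (Fintype.card K : ℂ) - 2 := by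
    have hl : lift (K := K) (1 : MulChar (ZMod p) ℂ) = 1 := by
      refine MulChar.ext fun u => ?_
      rw [lift_apply, MulChar.one_apply_coe, MulChar.one_apply]
      exact (u.isUnit.map (Algebra.norm (ZMod p)))
    rw [hTj, hl, MulChar.one_apply h2.isUnit, one_mul, one_mul, jacobiSum_one_one]
  set r := Real.sqrt (Fintype.card K)
  have hr2 : r ^ 2 = Fintype.card K := Real.sq_sqrt (Nat.cast_nonneg _)
  have hbound : ‖∑ c ∈ Finset.univ.erase (1, 1), T c‖ ≤ ((M : ℝ) ^ 2 - 1) * r := by
    refine (norm_sum_le _ _).trans ?_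
    refine (Finset.sum_le_card_nsmul _ _ r fun c hc => ?_).trans (le_of_eq ?_)
    · rw [hTj, norm_mul, norm_mul]
      have hne : ¬ (lift (K := K) c.1 = 1 ∧ lift (K := K) c.2 = 1) := fun h => Finset.ne_of_mem_erase hc
        (Prod.ext (lift_eq_one h.1) (lift_eq_one h.2))
      calc ‖(lift c.1 : MulChar K ℂ) 2‖ * ‖(lift c.2 : MulChar K ℂ) 2‖ * ‖jacobiSum (lift (K := K) c.1) (lift c.2)‖
          ≤ 1 * 1 * r := mul_le_mul (mul_le_mul (norm_mulChar_le _ _) (norm_mulChar_le _ _) (norm_nonneg _) zero_le_one)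
            (norm_jacobiSum_le hne (by rw [hchar]; exact hpp.ne_zero)) (norm_nonneg _) (by norm_num)
        _ = r := by ring
    · rw [Finset.card_erase_of_mem (Finset.mem_univ _), Finset.card_univ, Fintype.card_prod, hM, nsmul_eq_mul,
        Nat.cast_sub (by have := hpp.two_le; exact Nat.mul_pos (show 0 < M by omega) (show 0 < M by omega))]
      push_cast; ring
  rw [← Finset.add_sum_erase _ _ (Finset.mem_univ (1, 1)), hT1] at hT
  have hmain : (Fintype.card K : ℝ) - 2 - ((M : ℝ) ^ 2 - 1) * r ≤ (M : ℝ) ^ 2 * S.card := by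
    have h := norm_sub_le ((M : ℂ) ^ 2 * S.card) (∑ c ∈ Finset.univ.erase (1, 1), T c)
    rw [← eq_sub_of_add_eq hT] at h
    have h' : ‖(Fintype.card K : ℂ) - 2‖ = (Fintype.card K : ℝ) - 2 := by
      rw [show (Fintype.card K : ℂ) - 2 = (((Fintype.card K : ℝ) - 2 : ℝ) : ℂ) by push_cast; rfl, Complex.norm_real,
        Real.norm_eq_abs, abs_of_nonneg]
      have : (2 : ℝ) ≤ Fintype.card K := by exact_mod_cast Fintype.one_lt_card (α := K)
      linarith
    rw [h', norm_mul, norm_pow, Complex.norm_natCast, Complex.norm_natCast] at h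
    linarith
  have hS1 : (S.card : ℝ) ≤ 1 := by exact_mod_cast (show S.card ≤ 1 by omega)
  have hp3 : (3 : ℝ) ≤ p := by
    have : 3 ≤ p := by have := hpp.two_le; omega
    exact_mod_cast this
  have hMp : (M : ℝ) = p - 1 := by
    simp only [M]; rw [Nat.cast_sub hpp.one_le, Nat.cast_one]
  have hrp : (p : ℝ) ^ 2 ≤ r := by
    refine Real.le_sqrt_of_sq_le ?_
    rw [hcard, ← pow_mul, Nat.cast_pow]
    exact pow_le_pow_right₀ (by linarith) (by omega)
  have hcm : (M : ℝ) ^ 2 * S.card ≤ (M : ℝ) ^ 2 := by nlinarith [sq_nonneg (M : ℝ)]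
  rw [hMp] at hmain hcm
  nlinarith [mul_le_mul_of_nonneg_left hrp (show (0:ℝ) ≤ r by positivity), hrp, hr2, hp3]

end Jacobi

end Cfsg.Agent.NormPair
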